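import Cfsg.Agent.Lib.J4Rep.Rep
import Mathlib.GroupTheory.OrderOfElement
import Mathlib.Data.Fintype.Perm

/-!
Straight-line certificates for elements of the presented fourth Janko group in its 112-dimensional
binary action: a table is realised when some element acts by it.
-/
set_option autoImplicit false
set_option maxRecDepth 20000

namespace CfsgLib.J4Index

open CfsgLib.Presented CfsgLib.J4Rep

/-- the table `T3` is the table `T1` followed by the table `T2` -/
noncomputable def mul3 (T1 T2 T3 : ATree ℕ) : Bool :=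
  (List.range 112).all fun i =>
    Vec.force (T1.get i) fun u => Nat.beq (applyN T2 u 112) (T3.get i)

/-- `n` steps of a table -/
noncomputable def iter (T : ATree ℕ) (n : ℕ) : ℕ → ℕ :=
  Nat.rec (motive := fun _ => ℕ → ℕ) (fun v => v)
    (fun _ ih v => Vec.force (applyN T v 112) fun u => ih u) n

/-- `n` steps of a table fix the basis -/
noncomputable def powFix (T : ATree ℕ) (n : ℕ) : Bool :=
  (List.range 112).all fun i => Nat.beq (iter T n (2 ^ i)) (2 ^ i)

/-- a basis vector is moved -/
noncomputable def moves (T : ATree ℕ) : Bool :=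
  (List.range 112).any fun i => !Nat.beq (T.get i) (2 ^ i)

/-- a permutation acts by a table -/
def Acts (p : Equiv.Perm Vec112) (T : ATree ℕ) : Prop :=
  ∀ v : Vec112, (p v).1 = applyN T v.1 112

theorem applyN_two_pow (T : ATree ℕ) (i : ℕ) :
    ∀ n, applyN T (2 ^ i) n = if i < n then T.get i else 0
  | 0 => by simp [applyN_zero]
  | n + 1 => by
    rw [applyN_succ, applyN_two_pow T i n, Nat.testBit_two_pow]
    by_cases h : i = n
    · subst h
      simp
    · have : (i < n + 1) = (i < n) := by simp only [eq_iff_iff]; omega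
      simp [h, this]

theorem applyN_zero_vec (T : ATree ℕ) : applyN T 0 112 = 0 := by
  have h := applyN_xor T 0 0 112
  simpa using h

/-- additive functions agreeing on the basis agree -/
theorem eq_of_basis {f g : ℕ → ℕ} (hf : ∀ u v, f (u ^^^ v) = f u ^^^ f v)
    (hg : ∀ u v, g (u ^^^ v) = g u ^^^ g v) (h : ∀ i < 112, f (2 ^ i) = g (2 ^ i)) :
    ∀ n ≤ 112, ∀ v < 2 ^ n, f v = g v
  | 0, _, v, hv => by
    rw [pow_zero, Nat.lt_one_iff] at hv
    subst hv
    have h1 := hf 0 0
    have h2 := hg 0 0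
    simp only [Nat.xor_self] at h1 h2
    rw [h1, h2]
  | n + 1, hn, v, hv => by
    by_cases hb : v < 2 ^ n
    · exact eq_of_basis hf hg h n (by omega) v hb
    · have hlt : v - 2 ^ n < 2 ^ n := by rw [pow_succ] at hv; omega
      have e : v = 2 ^ n ^^^ (v - 2 ^ n) := by
        have h1 : 2 ^ n + (v - 2 ^ n) = v := by omega
        have h2 : 2 ^ n + (v - 2 ^ n) = 2 ^ n ||| (v - 2 ^ n) := by
          have := Nat.two_pow_add_eq_or_of_lt hlt 1
          simpa using this
        apply Nat.eq_of_testBit_eq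
        intro i
        rw [Nat.testBit_xor]
        have h3 : v.testBit i = (2 ^ n ||| (v - 2 ^ n)).testBit i := by rw [← h2, h1]
        rw [h3, Nat.testBit_or, Nat.testBit_two_pow]
        by_cases hi : n = i
        · subst hi
          simp [Nat.testBit_lt_two_pow hlt]
        · simp [hi]
      rw [e, hf, hg, h n (by omega), eq_of_basis hf hg h n (by omega) _ hlt]

theorem mul3_apply {T1 T2 T3 : ATree ℕ} (h : mul3 T1 T2 T3 = true) (v : Vec112) :
    applyN T2 (applyN T1 v.1 112) 112 = applyN T3 v.1 112 := by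
  refine eq_of_basis (f := fun u => applyN T2 (applyN T1 u 112) 112)
    (g := fun u => applyN T3 u 112) (fun a b => ?_) (fun a b => applyN_xor T3 a b 112) ?_ 112 le_rfl v.1 v.2
  · show applyN T2 (applyN T1 (a ^^^ b) 112) 112 = _
    rw [applyN_xor, applyN_xor]
  · intro i hi
    show applyN T2 (applyN T1 (2 ^ i) 112) 112 = applyN T3 (2 ^ i) 112
    rw [applyN_two_pow, applyN_two_pow, if_pos hi, if_pos hi]
    simp only [mul3, List.all_eq_true, List.mem_range, Vec.force_eq] at h
    exact Nat.eq_of_beq_eq_true (h i hi)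

theorem Acts.mul {p q : Equiv.Perm Vec112} {T1 T2 T3 : ATree ℕ} (hp : Acts p T1) (hq : Acts q T2)
    (h : mul3 T1 T2 T3 = true) : Acts (q * p) T3 := fun v => by
  rw [Equiv.Perm.mul_apply, hq, hp, mul3_apply h]

theorem Acts.ext {p q : Equiv.Perm Vec112} {T : ATree ℕ} (hp : Acts p T) (hq : Acts q T) : p = q :=
  Equiv.ext fun v => Subtype.ext ((hp v).trans (hq v).symm)

theorem iter_succ (T : ATree ℕ) (n v : ℕ) : iter T (n + 1) v = iter T n (applyN T v 112) := by
  show Vec.force (applyN T v 112) (fun u => iter T n u) = _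
  rw [Vec.force_eq]

theorem iter_xor (T : ATree ℕ) : ∀ n u v, iter T n (u ^^^ v) = iter T n u ^^^ iter T n v
  | 0, _, _ => rfl
  | n + 1, u, v => by rw [iter_succ, iter_succ, iter_succ, applyN_xor, iter_xor T n]

theorem iter_acts {p : Equiv.Perm Vec112} {T : ATree ℕ} (hp : Acts p T) :
    ∀ (n : ℕ) (v : Vec112), ((p ^ n) v).1 = iter T n v.1
  | 0, _ => rfl
  | n + 1, v => by
    rw [show p ^ (n + 1) = p ^ n * p from pow_succ p n, Equiv.Perm.mul_apply, iter_acts hp n, iter_succ, hp]

theorem Acts.pow_eq_one {p : Equiv.Perm Vec112} {T : ATree ℕ} (hp : Acts p T) {n : ℕ}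
    (h : powFix T n = true) : p ^ n = 1 := by
  refine Equiv.ext fun v => Subtype.ext ?_
  rw [iter_acts hp, Equiv.Perm.one_apply]
  refine eq_of_basis (f := iter T n) (g := fun u => u) (iter_xor T n) (fun _ _ => rfl) ?_ 112 le_rfl v.1 v.2
  intro i hi
  simp only [powFix, List.all_eq_true, List.mem_range] at h
  exact Nat.eq_of_beq_eq_true (h i hi)

theorem Acts.ne_one {p : Equiv.Perm Vec112} {T : ATree ℕ} (hp : Acts p T) (h : moves T = true) :
    p ≠ 1 := by
  intro e
  subst e
  simp only [moves, List.any_eq_true, List.mem_range] at h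
  obtain ⟨i, hi, hne⟩ := h
  have hv := hp ⟨2 ^ i, Nat.pow_lt_pow_right (by norm_num) hi⟩
  rw [Equiv.Perm.one_apply, applyN_two_pow, if_pos hi] at hv
  rw [← hv] at hne
  simp at hne

/-- some element of the group acts by the table -/
def Real (T : ATree ℕ) : Prop := ∃ g : Cfsg.Spor.J4, Acts (rep g) T

theorem Real.mul {T1 T2 T3 : ATree ℕ} (h1 : Real T1) (h2 : Real T2) (h : mul3 T1 T2 T3 = true) :
    Real T3 := by
  obtain ⟨g, hg⟩ := h1
  obtain ⟨k, hk⟩ := h2
  exact ⟨k * g, by rw [map_mul]; exact hg.mul hk h⟩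

theorem real_letters : Real tabX ∧ Real tabYi ∧ Real tabY ∧ Real tabT := by
  refine ⟨⟨PresentedGroup.of .x, fun v => ?_⟩, ⟨PresentedGroup.of .y, fun v => ?_⟩,
    ⟨(PresentedGroup.of .y)⁻¹, fun v => ?_⟩, ⟨PresentedGroup.of .t, fun v => ?_⟩⟩
  · rw [rep, PresentedGroup.toGroup.of]; exact apply_letter (x := 0) (by norm_num) v
  · rw [rep, PresentedGroup.toGroup.of]; exact apply_letter (x := 1) (by norm_num) v
  · rw [map_inv, rep, PresentedGroup.toGroup.of]; exact apply_letter (x := 2) (by norm_num) v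
  · rw [rep, PresentedGroup.toGroup.of]; exact apply_letter (x := 3) (by norm_num) v

theorem Real.dvd {T : ATree ℕ} (h : Real T) {q : ℕ} (hq : q.Prime) (hpow : powFix T q = true)
    (hm : moves T = true) : q ∣ Nat.card rep.range := by
  obtain ⟨g, hg⟩ := h
  haveI := Fact.mk hq
  have ho : orderOf (⟨rep g, MonoidHom.mem_range.mpr ⟨g, rfl⟩⟩ : rep.range) = q := by
    rw [Subgroup.orderOf_mk]
    exact orderOf_eq_prime (hg.pow_eq_one hpow) (hg.ne_one hm)
  rw [← ho]
  exact orderOf_dvd_natCard _

end CfsgLib.J4Index
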