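import Cfsg.Agent.Lib.Presented.J4Index.Base
import Cfsg.Agent.Lib.Presented.J4Index.Data0
import Cfsg.Agent.Lib.Presented.J4Index.Data1

/-! Kernel checks of the products (part 1). -/
set_option autoImplicit false
set_option maxRecDepth 20000

namespace CfsgLib.J4Index

open CfsgLib.Presented CfsgLib.J4Rep

theorem ok36 : mul3 n35 tabX n36 = true := by decide +kernel
theorem ok37 : mul3 n36 tabYi n37 = true := by decide +kernel
theorem ok38 : mul3 n37 tabX n38 = true := by decide +kernel
theorem ok39 : mul3 n38 tabY n39 = true := by decide +kernel
theorem ok40 : mul3 n39 tabT n40 = true := by decide +kernel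
theorem ok41 : mul3 n40 tabY n41 = true := by decide +kernel
theorem ok42 : mul3 n41 tabT n42 = true := by decide +kernel
theorem ok43 : mul3 n42 tabYi n43 = true := by decide +kernel
theorem ok44 : mul3 n43 tabX n44 = true := by decide +kernel
theorem ok45 : mul3 n44 tabY n45 = true := by decide +kernel
theorem ok46 : mul3 n45 tabT n46 = true := by decide +kernel
theorem ok47 : mul3 n46 tabY n47 = true := by decide +kernel
theorem ok48 : mul3 n47 tabT n48 = true := by decide +kernel
theorem ok49 : mul3 n48 tabY n49 = true := by decide +kernel
theorem ok50 : mul3 n49 tabT n50 = true := by decide +kernel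
theorem ok51 : mul3 n50 tabX n51 = true := by decide +kernel
theorem ok52 : mul3 n51 n11 n52 = true := by decide +kernel
theorem ok53 : mul3 tabX tabT n53 = true := by decide +kernel
theorem ok54 : mul3 n53 tabYi n54 = true := by decide +kernel
theorem ok55 : mul3 n54 tabT n55 = true := by decide +kernel
theorem ok56 : mul3 n55 tabYi n56 = true := by decide +kernel
theorem ok57 : mul3 n56 tabT n57 = true := by decide +kernel
theorem ok58 : mul3 n57 tabYi n58 = true := by decide +kernel
theorem ok59 : mul3 n58 tabX n59 = true := by decide +kernel
theorem ok60 : mul3 n59 tabY n60 = true := by decide +kernel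
theorem ok61 : mul3 n60 tabT n61 = true := by decide +kernel
theorem ok62 : mul3 n61 tabYi n62 = true := by decide +kernel
theorem ok63 : mul3 n62 tabT n63 = true := by decide +kernel
theorem ok64 : mul3 n63 tabYi n64 = true := by decide +kernel
theorem ok65 : mul3 n64 tabX n65 = true := by decide +kernel
theorem ok66 : mul3 n65 tabY n66 = true := by decide +kernel
theorem ok67 : mul3 n66 tabX n67 = true := by decide +kernel
theorem ok68 : mul3 n67 tabYi n68 = true := by decide +kernel
theorem ok69 : mul3 n68 tabT n69 = true := by decide +kernel
theorem ok70 : mul3 n69 tabYi n70 = true := by decide +kernel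
theorem ok71 : mul3 n70 tabT n71 = true := by decide +kernel

end CfsgLib.J4Index
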