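import Cfsg.Agent.Lib.Presented.J4Index.Base
import Cfsg.Agent.Lib.Presented.J4Index.Data0
import Cfsg.Agent.Lib.Presented.J4Index.Data1
import Cfsg.Agent.Lib.Presented.J4Index.Data2

/-! Kernel checks of the products (part 2). -/
set_option autoImplicit false
set_option maxRecDepth 20000

namespace CfsgLib.J4Index

open CfsgLib.Presented CfsgLib.J4Rep

theorem ok72 : mul3 n52 n71 n72 = true := by decide +kernel
theorem ok73 : mul3 n72 n72 n73 = true := by decide +kernel
theorem ok74 : mul3 n73 n73 n74 = true := by decide +kernel
theorem ok75 : mul3 n74 n74 n75 = true := by decide +kernel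
theorem ok76 : mul3 n73 n75 n76 = true := by decide +kernel
theorem ok77 : mul3 n1 n76 n77 = true := by decide +kernel
theorem ok78 : mul3 n77 tabX n78 = true := by decide +kernel
theorem ok79 : mul3 n78 n72 n79 = true := by decide +kernel
theorem ok80 : mul3 n79 tabY n80 = true := by decide +kernel
theorem ok81 : mul3 n80 n72 n81 = true := by decide +kernel
theorem ok82 : mul3 n81 n72 n82 = true := by decide +kernel
theorem ok83 : mul3 n82 tabX n83 = true := by decide +kernel
theorem ok84 : mul3 n83 tabYi n84 = true := by decide +kernel
theorem ok85 : mul3 n84 n72 n85 = true := by decide +kernel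
theorem ok86 : mul3 n85 tabX n86 = true := by decide +kernel
theorem ok87 : mul3 n86 n72 n87 = true := by decide +kernel
theorem ok88 : mul3 n87 tabYi n88 = true := by decide +kernel
theorem ok89 : mul3 n88 n76 n89 = true := by decide +kernel
theorem ok90 : mul3 n32 n89 n90 = true := by decide +kernel
theorem ok91 : mul3 n90 n90 n91 = true := by decide +kernel
theorem ok92 : mul3 n90 n91 n92 = true := by decide +kernel
theorem ok93 : mul3 n11 n90 n93 = true := by decide +kernel
theorem ok94 : mul3 n92 n93 n94 = true := by decide +kernel
theorem ok95 : mul3 n33 tabX n95 = true := by decide +kernel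
theorem ok96 : mul3 n95 tabYi n96 = true := by decide +kernel
theorem ok97 : mul3 n96 tabX n97 = true := by decide +kernel
theorem ok98 : mul3 n97 tabYi n98 = true := by decide +kernel
theorem ok99 : mul3 n98 tabX n99 = true := by decide +kernel
theorem ok100 : mul3 n99 tabT n100 = true := by decide +kernel
theorem ok101 : mul3 n100 tabYi n101 = true := by decide +kernel
theorem ok102 : mul3 n101 tabT n102 = true := by decide +kernel
theorem ok103 : mul3 n102 tabY n103 = true := by decide +kernel
theorem ok104 : mul3 n103 tabX n104 = true := by decide +kernel
theorem ok105 : mul3 n104 tabY n105 = true := by decide +kernel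
theorem ok106 : mul3 n105 tabX n106 = true := by decide +kernel
theorem ok107 : mul3 n106 tabY n107 = true := by decide +kernel

end CfsgLib.J4Index
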