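import Cfsg.Agent.Lib.Presented.J4Index.Base
import Cfsg.Agent.Lib.Presented.J4Index.Data0
import Cfsg.Agent.Lib.Presented.J4Index.Data2
import Cfsg.Agent.Lib.Presented.J4Index.Data3

/-! Kernel checks of the products (part 3). -/
set_option autoImplicit false
set_option maxRecDepth 20000

namespace CfsgLib.J4Index

open CfsgLib.Presented CfsgLib.J4Rep

theorem ok108 : mul3 n107 tabT n108 = true := by decide +kernel
theorem ok109 : mul3 n108 tabX n109 = true := by decide +kernel
theorem ok110 : mul3 n109 tabYi n110 = true := by decide +kernel
theorem ok111 : mul3 n110 tabX n111 = true := by decide +kernel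
theorem ok112 : mul3 n111 tabYi n112 = true := by decide +kernel
theorem ok113 : mul3 n112 tabX n113 = true := by decide +kernel
theorem ok114 : mul3 n113 tabY n114 = true := by decide +kernel
theorem ok115 : mul3 n114 tabT n115 = true := by decide +kernel
theorem ok116 : mul3 n115 tabY n116 = true := by decide +kernel
theorem ok117 : mul3 n116 tabT n117 = true := by decide +kernel
theorem ok118 : mul3 tabX n76 n118 = true := by decide +kernel
theorem ok119 : mul3 n118 tabYi n119 = true := by decide +kernel
theorem ok120 : mul3 n119 tabX n120 = true := by decide +kernel
theorem ok121 : mul3 n120 n76 n121 = true := by decide +kernel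
theorem ok122 : mul3 n121 n76 n122 = true := by decide +kernel
theorem ok123 : mul3 n122 tabX n123 = true := by decide +kernel
theorem ok124 : mul3 n123 tabY n124 = true := by decide +kernel
theorem ok125 : mul3 n124 n72 n125 = true := by decide +kernel
theorem ok126 : mul3 n125 tabYi n126 = true := by decide +kernel
theorem ok127 : mul3 n126 n72 n127 = true := by decide +kernel
theorem ok128 : mul3 n127 n72 n128 = true := by decide +kernel
theorem ok129 : mul3 n128 n72 n129 = true := by decide +kernel
theorem ok130 : mul3 n129 n72 n130 = true := by decide +kernel
theorem ok131 : mul3 n130 tabX n131 = true := by decide +kernel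
theorem ok132 : mul3 n131 n72 n132 = true := by decide +kernel
theorem ok133 : mul3 n117 n132 n133 = true := by decide +kernel
theorem ok134 : mul3 n133 n90 n134 = true := by decide +kernel
theorem ok135 : mul3 n94 n134 n135 = true := by decide +kernel
theorem ok136 : mul3 n133 n133 n136 = true := by decide +kernel
theorem ok137 : mul3 n135 n136 n137 = true := by decide +kernel
theorem ok138 : mul3 n136 n91 n138 = true := by decide +kernel
theorem ok139 : mul3 n137 n138 n139 = true := by decide +kernel
theorem ok140 : mul3 n11 n136 n140 = true := by decide +kernel
theorem ok141 : mul3 n139 n140 n141 = true := by decide +kernel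
theorem ok142 : mul3 n138 n11 n142 = true := by decide +kernel
theorem ok143 : mul3 n141 n142 n143 = true := by decide +kernel

end CfsgLib.J4Index
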