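import Cfsg.Agent.Lib.Presented.J4Index.Base
import Cfsg.Agent.Lib.Presented.J4Index.Data0
import Cfsg.Agent.Lib.Presented.J4Index.Data2
import Cfsg.Agent.Lib.Presented.J4Index.Data3
import Cfsg.Agent.Lib.Presented.J4Index.Data4

/-! Kernel checks of the products (part 4). -/
set_option autoImplicit false
set_option maxRecDepth 20000

namespace CfsgLib.J4Index

open CfsgLib.Presented CfsgLib.J4Rep

theorem ok144 : mul3 n90 n140 n144 = true := by decide +kernel
theorem ok145 : mul3 n133 n136 n145 = true := by decide +kernel
theorem ok146 : mul3 n134 n90 n146 = true := by decide +kernel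
theorem ok147 : mul3 n145 n146 n147 = true := by decide +kernel
theorem ok148 : mul3 n90 n133 n148 = true := by decide +kernel
theorem ok149 : mul3 n147 n148 n149 = true := by decide +kernel
theorem ok150 : mul3 n90 n11 n150 = true := by decide +kernel
theorem ok151 : mul3 n149 n150 n151 = true := by decide +kernel
theorem ok152 : mul3 n150 n90 n152 = true := by decide +kernel
theorem ok153 : mul3 n151 n152 n153 = true := by decide +kernel
theorem ok154 : mul3 n136 n146 n154 = true := by decide +kernel
theorem ok155 : mul3 n153 n154 n155 = true := by decide +kernel
theorem ok156 : mul3 n142 n93 n156 = true := by decide +kernel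
theorem ok157 : mul3 n155 n156 n157 = true := by decide +kernel
theorem ok158 : mul3 n156 n136 n158 = true := by decide +kernel
theorem ok159 : mul3 n157 n158 n159 = true := by decide +kernel
theorem ok160 : mul3 n152 n136 n160 = true := by decide +kernel
theorem ok161 : mul3 n159 n160 n161 = true := by decide +kernel
theorem ok162 : mul3 n152 n133 n162 = true := by decide +kernel
theorem ok163 : mul3 n161 n162 n163 = true := by decide +kernel
theorem ok164 : mul3 n152 n154 n164 = true := by decide +kernel
theorem ok165 : mul3 n163 n164 n165 = true := by decide +kernel
theorem ok166 : mul3 n165 n152 n166 = true := by decide +kernel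
theorem ok167 : mul3 n166 n92 n167 = true := by decide +kernel
theorem ok168 : mul3 n162 n148 n168 = true := by decide +kernel
theorem ok169 : mul3 n167 n168 n169 = true := by decide +kernel
theorem ok170 : mul3 n158 n160 n170 = true := by decide +kernel
theorem ok171 : mul3 n169 n170 n171 = true := by decide +kernel
theorem ok172 : mul3 n144 n92 n172 = true := by decide +kernel
theorem ok173 : mul3 n171 n172 n173 = true := by decide +kernel
theorem ok174 : mul3 n133 n152 n174 = true := by decide +kernel
theorem ok175 : mul3 n173 n174 n175 = true := by decide +kernel
theorem ok176 : mul3 n170 n138 n176 = true := by decide +kernel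
theorem ok177 : mul3 n175 n176 n177 = true := by decide +kernel
theorem ok178 : mul3 n174 n162 n178 = true := by decide +kernel
theorem ok179 : mul3 n177 n178 n179 = true := by decide +kernel

end CfsgLib.J4Index
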