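import Cfsg.Agent.Lib.Presented.J4Index.Base
import Cfsg.Agent.Lib.Presented.J4Index.Data3
import Cfsg.Agent.Lib.Presented.J4Index.Data4
import Cfsg.Agent.Lib.Presented.J4Index.Data5

/-! Kernel checks of the products (part 5). -/
set_option autoImplicit false
set_option maxRecDepth 20000

namespace CfsgLib.J4Index

open CfsgLib.Presented CfsgLib.J4Rep

theorem ok180 : mul3 n179 n145 n180 = true := by decide +kernel
theorem ok181 : mul3 n136 n145 n181 = true := by decide +kernel
theorem ok182 : mul3 n180 n181 n182 = true := by decide +kernel
theorem ok183 : mul3 n164 n145 n183 = true := by decide +kernel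
theorem ok184 : mul3 n182 n183 n184 = true := by decide +kernel
theorem ok185 : mul3 n168 n162 n185 = true := by decide +kernel
theorem ok186 : mul3 n184 n185 n186 = true := by decide +kernel
theorem ok187 : mul3 n164 n183 n187 = true := by decide +kernel
theorem ok188 : mul3 n186 n187 n188 = true := by decide +kernel
theorem ok189 : mul3 n178 n185 n189 = true := by decide +kernel
theorem ok190 : mul3 n188 n189 n190 = true := by decide +kernel
theorem ok191 : mul3 n172 n189 n191 = true := by decide +kernel
theorem ok192 : mul3 n190 n191 n192 = true := by decide +kernel
theorem ok193 : mul3 n162 n144 n193 = true := by decide +kernel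
theorem ok194 : mul3 n192 n193 n194 = true := by decide +kernel
theorem ok195 : mul3 n185 n193 n195 = true := by decide +kernel
theorem ok196 : mul3 n194 n195 n196 = true := by decide +kernel
theorem ok197 : mul3 n191 n183 n197 = true := by decide +kernel
theorem ok198 : mul3 n196 n197 n198 = true := by decide +kernel
theorem ok199 : mul3 n176 n187 n199 = true := by decide +kernel
theorem ok200 : mul3 n198 n199 n200 = true := by decide +kernel
theorem ok201 : mul3 n158 n193 n201 = true := by decide +kernel
theorem ok202 : mul3 n200 n201 n202 = true := by decide +kernel
theorem ok203 : mul3 n172 n150 n203 = true := by decide +kernel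
theorem ok204 : mul3 n202 n203 n204 = true := by decide +kernel
theorem ok205 : mul3 n158 n187 n205 = true := by decide +kernel
theorem ok206 : mul3 n204 n205 n206 = true := by decide +kernel
theorem ok207 : mul3 n187 n144 n207 = true := by decide +kernel
theorem ok208 : mul3 n206 n207 n208 = true := by decide +kernel
theorem ok209 : mul3 n208 n201 n209 = true := by decide +kernel
theorem ok210 : mul3 n201 n207 n210 = true := by decide +kernel
theorem ok211 : mul3 n209 n210 n211 = true := by decide +kernel
theorem ok212 : mul3 n199 n170 n212 = true := by decide +kernel
theorem ok213 : mul3 n211 n212 n213 = true := by decide +kernel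
theorem ok214 : mul3 n201 n187 n214 = true := by decide +kernel
theorem ok215 : mul3 n207 n203 n215 = true := by decide +kernel

end CfsgLib.J4Index
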