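import Cfsg.Agent.Lib.Presented.J4Index.Base
import Cfsg.Agent.Lib.Presented.J4Index.Data4
import Cfsg.Agent.Lib.Presented.J4Index.Data5
import Cfsg.Agent.Lib.Presented.J4Index.Data6

/-! Kernel checks of the products (part 6). -/
set_option autoImplicit false
set_option maxRecDepth 20000

namespace CfsgLib.J4Index

open CfsgLib.Presented CfsgLib.J4Rep

theorem ok216 : mul3 n153 n215 n216 = true := by decide +kernel
theorem ok217 : mul3 n214 n210 n217 = true := by decide +kernel
theorem ok218 : mul3 n216 n217 n218 = true := by decide +kernel
theorem ok219 : mul3 n210 n217 n219 = true := by decide +kernel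
theorem ok220 : mul3 n218 n219 n220 = true := by decide +kernel
theorem ok221 : mul3 n195 n205 n221 = true := by decide +kernel
theorem ok222 : mul3 n220 n221 n222 = true := by decide +kernel
theorem ok223 : mul3 n203 n181 n223 = true := by decide +kernel
theorem ok224 : mul3 n222 n223 n224 = true := by decide +kernel
theorem ok225 : mul3 n210 n223 n225 = true := by decide +kernel
theorem ok226 : mul3 n224 n225 n226 = true := by decide +kernel
theorem ok227 : mul3 tabY tabT n227 = true := by decide +kernel
theorem ok228 : mul3 n227 tabYi n228 = true := by decide +kernel
theorem ok229 : mul3 n228 tabT n229 = true := by decide +kernel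
theorem ok230 : mul3 n229 tabY n230 = true := by decide +kernel
theorem ok231 : mul3 n230 tabY n231 = true := by decide +kernel
theorem ok232 : mul3 n231 tabX n232 = true := by decide +kernel
theorem ok233 : mul3 n232 tabY n233 = true := by decide +kernel
theorem ok234 : mul3 n233 tabX n234 = true := by decide +kernel
theorem ok235 : mul3 n234 tabYi n235 = true := by decide +kernel
theorem ok236 : mul3 n235 tabT n236 = true := by decide +kernel
theorem ok237 : mul3 n236 tabX n237 = true := by decide +kernel
theorem ok238 : mul3 n227 tabY n238 = true := by decide +kernel
theorem ok239 : mul3 n238 tabT n239 = true := by decide +kernel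
theorem ok240 : mul3 n239 tabX n240 = true := by decide +kernel
theorem ok241 : mul3 n240 tabYi n241 = true := by decide +kernel
theorem ok242 : mul3 n240 tabY n242 = true := by decide +kernel
theorem ok243 : mul3 n242 tabT n243 = true := by decide +kernel
theorem ok244 : mul3 n243 tabY n244 = true := by decide +kernel
theorem ok245 : mul3 n244 tabY n245 = true := by decide +kernel
theorem ok246 : mul3 tabX tabY n246 = true := by decide +kernel
theorem ok247 : mul3 n246 tabX n247 = true := by decide +kernel
theorem ok248 : mul3 n247 tabT n248 = true := by decide +kernel
theorem ok249 : mul3 n248 tabY n249 = true := by decide +kernel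
theorem ok250 : mul3 n249 tabT n250 = true := by decide +kernel
theorem ok251 : mul3 n250 tabX n251 = true := by decide +kernel

end CfsgLib.J4Index
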