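import Cfsg.Agent.Lib.Presented.J4Index.Base
import Cfsg.Agent.Lib.Presented.J4Index.Data0
import Cfsg.Agent.Lib.Presented.J4Index.Data6
import Cfsg.Agent.Lib.Presented.J4Index.Data7

/-! Kernel checks of the products (part 7). -/
set_option autoImplicit false
set_option maxRecDepth 20000

namespace CfsgLib.J4Index

open CfsgLib.Presented CfsgLib.J4Rep

theorem ok252 : mul3 n251 tabY n252 = true := by decide +kernel
theorem ok253 : mul3 n252 tabT n253 = true := by decide +kernel
theorem ok254 : mul3 n253 tabY n254 = true := by decide +kernel
theorem ok255 : mul3 n254 tabY n255 = true := by decide +kernel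
theorem ok256 : mul3 n0 tabT n256 = true := by decide +kernel
theorem ok257 : mul3 n256 tabX n257 = true := by decide +kernel
theorem ok258 : mul3 n257 tabY n258 = true := by decide +kernel
theorem ok259 : mul3 n258 tabT n259 = true := by decide +kernel
theorem ok260 : mul3 n259 tabX n260 = true := by decide +kernel
theorem ok261 : mul3 n260 tabY n261 = true := by decide +kernel
theorem ok262 : mul3 n261 tabT n262 = true := by decide +kernel
theorem ok263 : mul3 n260 tabYi n263 = true := by decide +kernel
theorem ok264 : mul3 n263 tabT n264 = true := by decide +kernel

end CfsgLib.J4Index
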