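import Cfsg.Agent.Lib.Presented.J4Index.Prod0
import Cfsg.Agent.Lib.Presented.J4Index.Prod1
import Cfsg.Agent.Lib.Presented.J4Index.Prod2
import Cfsg.Agent.Lib.Presented.J4Index.Prod3
import Cfsg.Agent.Lib.Presented.J4Index.Prod4
import Cfsg.Agent.Lib.Presented.J4Index.Prod5
import Cfsg.Agent.Lib.Presented.J4Index.Prod6
import Cfsg.Agent.Lib.Presented.J4Index.Prod7
import Mathlib.GroupTheory.QuotientGroup.Basic

/-! Realised tables and the checks on their orders. -/
set_option autoImplicit false
set_option maxRecDepth 20000

namespace CfsgLib.J4Index

open CfsgLib.Presented CfsgLib.J4Rep

theorem real0 : Real n0 := Real.mul real_letters.1 real_letters.2.1 ok0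
theorem real1 : Real n1 := Real.mul real0 real_letters.1 ok1
theorem real2 : Real n2 := Real.mul real1 real_letters.2.2.1 ok2
theorem real3 : Real n3 := Real.mul real2 real_letters.1 ok3
theorem real4 : Real n4 := Real.mul real3 real_letters.2.1 ok4
theorem real5 : Real n5 := Real.mul real4 real_letters.2.1 ok5
theorem real6 : Real n6 := Real.mul real5 real_letters.1 ok6
theorem real7 : Real n7 := Real.mul real6 real_letters.2.2.1 ok7
theorem real8 : Real n8 := Real.mul real7 real_letters.1 ok8
theorem real9 : Real n9 := Real.mul real8 real_letters.2.1 ok9
theorem real10 : Real n10 := Real.mul real9 real_letters.1 ok10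
theorem real11 : Real n11 := Real.mul real10 real_letters.2.1 ok11
theorem real12 : Real n12 := Real.mul real1 real_letters.2.1 ok12
theorem real13 : Real n13 := Real.mul real12 real_letters.1 ok13
theorem real14 : Real n14 := Real.mul real13 real_letters.2.2.1 ok14
theorem real15 : Real n15 := Real.mul real14 real_letters.2.2.2 ok15
theorem real16 : Real n16 := Real.mul real15 real_letters.2.2.1 ok16
theorem real17 : Real n17 := Real.mul real16 real_letters.2.2.2 ok17
theorem real18 : Real n18 := Real.mul real17 real_letters.2.1 ok18
theorem real19 : Real n19 := Real.mul real18 real_letters.2.2.2 ok19
theorem real20 : Real n20 := Real.mul real19 real_letters.1 ok20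
theorem real21 : Real n21 := Real.mul real20 real_letters.2.2.1 ok21
theorem real22 : Real n22 := Real.mul real21 real_letters.2.2.2 ok22
theorem real23 : Real n23 := Real.mul real22 real_letters.2.1 ok23
theorem real24 : Real n24 := Real.mul real23 real_letters.1 ok24
theorem real25 : Real n25 := Real.mul real24 real_letters.2.1 ok25
theorem real26 : Real n26 := Real.mul real25 real_letters.1 ok26
theorem real27 : Real n27 := Real.mul real26 real_letters.2.1 ok27
theorem real28 : Real n28 := Real.mul real27 real_letters.2.2.2 ok28
theorem real29 : Real n29 := Real.mul real28 real_letters.2.2.1 ok29
theorem real30 : Real n30 := Real.mul real29 real_letters.2.2.2 ok30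
theorem real31 : Real n31 := Real.mul real30 real_letters.2.1 ok31
theorem real32 : Real n32 := Real.mul real31 real_letters.2.2.2 ok32
theorem real33 : Real n33 := Real.mul real_letters.2.2.2 real_letters.2.2.1 ok33
theorem real34 : Real n34 := Real.mul real33 real_letters.2.2.2 ok34
theorem real35 : Real n35 := Real.mul real34 real_letters.2.2.1 ok35
theorem real36 : Real n36 := Real.mul real35 real_letters.1 ok36
theorem real37 : Real n37 := Real.mul real36 real_letters.2.1 ok37
theorem real38 : Real n38 := Real.mul real37 real_letters.1 ok38
theorem real39 : Real n39 := Real.mul real38 real_letters.2.2.1 ok39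
theorem real40 : Real n40 := Real.mul real39 real_letters.2.2.2 ok40
theorem real41 : Real n41 := Real.mul real40 real_letters.2.2.1 ok41
theorem real42 : Real n42 := Real.mul real41 real_letters.2.2.2 ok42
theorem real43 : Real n43 := Real.mul real42 real_letters.2.1 ok43
theorem real44 : Real n44 := Real.mul real43 real_letters.1 ok44
theorem real45 : Real n45 := Real.mul real44 real_letters.2.2.1 ok45
theorem real46 : Real n46 := Real.mul real45 real_letters.2.2.2 ok46
theorem real47 : Real n47 := Real.mul real46 real_letters.2.2.1 ok47
theorem real48 : Real n48 := Real.mul real47 real_letters.2.2.2 ok48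
theorem real49 : Real n49 := Real.mul real48 real_letters.2.2.1 ok49
theorem real50 : Real n50 := Real.mul real49 real_letters.2.2.2 ok50
theorem real51 : Real n51 := Real.mul real50 real_letters.1 ok51
theorem real52 : Real n52 := Real.mul real51 real11 ok52
theorem real53 : Real n53 := Real.mul real_letters.1 real_letters.2.2.2 ok53
theorem real54 : Real n54 := Real.mul real53 real_letters.2.1 ok54
theorem real55 : Real n55 := Real.mul real54 real_letters.2.2.2 ok55
theorem real56 : Real n56 := Real.mul real55 real_letters.2.1 ok56
theorem real57 : Real n57 := Real.mul real56 real_letters.2.2.2 ok57
theorem real58 : Real n58 := Real.mul real57 real_letters.2.1 ok58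
theorem real59 : Real n59 := Real.mul real58 real_letters.1 ok59
theorem real60 : Real n60 := Real.mul real59 real_letters.2.2.1 ok60
theorem real61 : Real n61 := Real.mul real60 real_letters.2.2.2 ok61
theorem real62 : Real n62 := Real.mul real61 real_letters.2.1 ok62
theorem real63 : Real n63 := Real.mul real62 real_letters.2.2.2 ok63
theorem real64 : Real n64 := Real.mul real63 real_letters.2.1 ok64
theorem real65 : Real n65 := Real.mul real64 real_letters.1 ok65
theorem real66 : Real n66 := Real.mul real65 real_letters.2.2.1 ok66
theorem real67 : Real n67 := Real.mul real66 real_letters.1 ok67
theorem real68 : Real n68 := Real.mul real67 real_letters.2.1 ok68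
theorem real69 : Real n69 := Real.mul real68 real_letters.2.2.2 ok69
theorem real70 : Real n70 := Real.mul real69 real_letters.2.1 ok70
theorem real71 : Real n71 := Real.mul real70 real_letters.2.2.2 ok71
theorem real72 : Real n72 := Real.mul real52 real71 ok72
theorem real73 : Real n73 := Real.mul real72 real72 ok73
theorem real74 : Real n74 := Real.mul real73 real73 ok74
theorem real75 : Real n75 := Real.mul real74 real74 ok75
theorem real76 : Real n76 := Real.mul real73 real75 ok76
theorem real77 : Real n77 := Real.mul real1 real76 ok77
theorem real78 : Real n78 := Real.mul real77 real_letters.1 ok78
theorem real79 : Real n79 := Real.mul real78 real72 ok79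
theorem real80 : Real n80 := Real.mul real79 real_letters.2.2.1 ok80
theorem real81 : Real n81 := Real.mul real80 real72 ok81
theorem real82 : Real n82 := Real.mul real81 real72 ok82
theorem real83 : Real n83 := Real.mul real82 real_letters.1 ok83
theorem real84 : Real n84 := Real.mul real83 real_letters.2.1 ok84
theorem real85 : Real n85 := Real.mul real84 real72 ok85
theorem real86 : Real n86 := Real.mul real85 real_letters.1 ok86
theorem real87 : Real n87 := Real.mul real86 real72 ok87
theorem real88 : Real n88 := Real.mul real87 real_letters.2.1 ok88
theorem real89 : Real n89 := Real.mul real88 real76 ok89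
theorem real90 : Real n90 := Real.mul real32 real89 ok90
theorem real91 : Real n91 := Real.mul real90 real90 ok91
theorem real92 : Real n92 := Real.mul real90 real91 ok92
theorem real93 : Real n93 := Real.mul real11 real90 ok93
theorem real94 : Real n94 := Real.mul real92 real93 ok94
theorem real95 : Real n95 := Real.mul real33 real_letters.1 ok95
theorem real96 : Real n96 := Real.mul real95 real_letters.2.1 ok96
theorem real97 : Real n97 := Real.mul real96 real_letters.1 ok97
theorem real98 : Real n98 := Real.mul real97 real_letters.2.1 ok98
theorem real99 : Real n99 := Real.mul real98 real_letters.1 ok99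
theorem real100 : Real n100 := Real.mul real99 real_letters.2.2.2 ok100
theorem real101 : Real n101 := Real.mul real100 real_letters.2.1 ok101
theorem real102 : Real n102 := Real.mul real101 real_letters.2.2.2 ok102
theorem real103 : Real n103 := Real.mul real102 real_letters.2.2.1 ok103
theorem real104 : Real n104 := Real.mul real103 real_letters.1 ok104
theorem real105 : Real n105 := Real.mul real104 real_letters.2.2.1 ok105
theorem real106 : Real n106 := Real.mul real105 real_letters.1 ok106
theorem real107 : Real n107 := Real.mul real106 real_letters.2.2.1 ok107
theorem real108 : Real n108 := Real.mul real107 real_letters.2.2.2 ok108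
theorem real109 : Real n109 := Real.mul real108 real_letters.1 ok109
theorem real110 : Real n110 := Real.mul real109 real_letters.2.1 ok110
theorem real111 : Real n111 := Real.mul real110 real_letters.1 ok111
theorem real112 : Real n112 := Real.mul real111 real_letters.2.1 ok112
theorem real113 : Real n113 := Real.mul real112 real_letters.1 ok113
theorem real114 : Real n114 := Real.mul real113 real_letters.2.2.1 ok114
theorem real115 : Real n115 := Real.mul real114 real_letters.2.2.2 ok115
theorem real116 : Real n116 := Real.mul real115 real_letters.2.2.1 ok116
theorem real117 : Real n117 := Real.mul real116 real_letters.2.2.2 ok117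
theorem real118 : Real n118 := Real.mul real_letters.1 real76 ok118
theorem real119 : Real n119 := Real.mul real118 real_letters.2.1 ok119
theorem real120 : Real n120 := Real.mul real119 real_letters.1 ok120
theorem real121 : Real n121 := Real.mul real120 real76 ok121
theorem real122 : Real n122 := Real.mul real121 real76 ok122
theorem real123 : Real n123 := Real.mul real122 real_letters.1 ok123
theorem real124 : Real n124 := Real.mul real123 real_letters.2.2.1 ok124
theorem real125 : Real n125 := Real.mul real124 real72 ok125
theorem real126 : Real n126 := Real.mul real125 real_letters.2.1 ok126
theorem real127 : Real n127 := Real.mul real126 real72 ok127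
theorem real128 : Real n128 := Real.mul real127 real72 ok128
theorem real129 : Real n129 := Real.mul real128 real72 ok129
theorem real130 : Real n130 := Real.mul real129 real72 ok130
theorem real131 : Real n131 := Real.mul real130 real_letters.1 ok131
theorem real132 : Real n132 := Real.mul real131 real72 ok132
theorem real133 : Real n133 := Real.mul real117 real132 ok133
theorem real134 : Real n134 := Real.mul real133 real90 ok134
theorem real135 : Real n135 := Real.mul real94 real134 ok135
theorem real136 : Real n136 := Real.mul real133 real133 ok136
theorem real137 : Real n137 := Real.mul real135 real136 ok137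
theorem real138 : Real n138 := Real.mul real136 real91 ok138
theorem real139 : Real n139 := Real.mul real137 real138 ok139
theorem real140 : Real n140 := Real.mul real11 real136 ok140
theorem real141 : Real n141 := Real.mul real139 real140 ok141
theorem real142 : Real n142 := Real.mul real138 real11 ok142
theorem real143 : Real n143 := Real.mul real141 real142 ok143
theorem real144 : Real n144 := Real.mul real90 real140 ok144
theorem real145 : Real n145 := Real.mul real133 real136 ok145
theorem real146 : Real n146 := Real.mul real134 real90 ok146
theorem real147 : Real n147 := Real.mul real145 real146 ok147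
theorem real148 : Real n148 := Real.mul real90 real133 ok148
theorem real149 : Real n149 := Real.mul real147 real148 ok149
theorem real150 : Real n150 := Real.mul real90 real11 ok150
theorem real151 : Real n151 := Real.mul real149 real150 ok151
theorem real152 : Real n152 := Real.mul real150 real90 ok152
theorem real153 : Real n153 := Real.mul real151 real152 ok153
theorem real154 : Real n154 := Real.mul real136 real146 ok154
theorem real155 : Real n155 := Real.mul real153 real154 ok155
theorem real156 : Real n156 := Real.mul real142 real93 ok156
theorem real157 : Real n157 := Real.mul real155 real156 ok157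
theorem real158 : Real n158 := Real.mul real156 real136 ok158
theorem real159 : Real n159 := Real.mul real157 real158 ok159
theorem real160 : Real n160 := Real.mul real152 real136 ok160
theorem real161 : Real n161 := Real.mul real159 real160 ok161
theorem real162 : Real n162 := Real.mul real152 real133 ok162
theorem real163 : Real n163 := Real.mul real161 real162 ok163
theorem real164 : Real n164 := Real.mul real152 real154 ok164
theorem real165 : Real n165 := Real.mul real163 real164 ok165
theorem real166 : Real n166 := Real.mul real165 real152 ok166
theorem real167 : Real n167 := Real.mul real166 real92 ok167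
theorem real168 : Real n168 := Real.mul real162 real148 ok168
theorem real169 : Real n169 := Real.mul real167 real168 ok169
theorem real170 : Real n170 := Real.mul real158 real160 ok170
theorem real171 : Real n171 := Real.mul real169 real170 ok171
theorem real172 : Real n172 := Real.mul real144 real92 ok172
theorem real173 : Real n173 := Real.mul real171 real172 ok173
theorem real174 : Real n174 := Real.mul real133 real152 ok174
theorem real175 : Real n175 := Real.mul real173 real174 ok175
theorem real176 : Real n176 := Real.mul real170 real138 ok176
theorem real177 : Real n177 := Real.mul real175 real176 ok177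
theorem real178 : Real n178 := Real.mul real174 real162 ok178
theorem real179 : Real n179 := Real.mul real177 real178 ok179
theorem real180 : Real n180 := Real.mul real179 real145 ok180
theorem real181 : Real n181 := Real.mul real136 real145 ok181
theorem real182 : Real n182 := Real.mul real180 real181 ok182
theorem real183 : Real n183 := Real.mul real164 real145 ok183
theorem real184 : Real n184 := Real.mul real182 real183 ok184
theorem real185 : Real n185 := Real.mul real168 real162 ok185
theorem real186 : Real n186 := Real.mul real184 real185 ok186
theorem real187 : Real n187 := Real.mul real164 real183 ok187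
theorem real188 : Real n188 := Real.mul real186 real187 ok188
theorem real189 : Real n189 := Real.mul real178 real185 ok189
theorem real190 : Real n190 := Real.mul real188 real189 ok190
theorem real191 : Real n191 := Real.mul real172 real189 ok191
theorem real192 : Real n192 := Real.mul real190 real191 ok192
theorem real193 : Real n193 := Real.mul real162 real144 ok193
theorem real194 : Real n194 := Real.mul real192 real193 ok194
theorem real195 : Real n195 := Real.mul real185 real193 ok195
theorem real196 : Real n196 := Real.mul real194 real195 ok196
theorem real197 : Real n197 := Real.mul real191 real183 ok197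
theorem real198 : Real n198 := Real.mul real196 real197 ok198
theorem real199 : Real n199 := Real.mul real176 real187 ok199
theorem real200 : Real n200 := Real.mul real198 real199 ok200
theorem real201 : Real n201 := Real.mul real158 real193 ok201
theorem real202 : Real n202 := Real.mul real200 real201 ok202
theorem real203 : Real n203 := Real.mul real172 real150 ok203
theorem real204 : Real n204 := Real.mul real202 real203 ok204
theorem real205 : Real n205 := Real.mul real158 real187 ok205
theorem real206 : Real n206 := Real.mul real204 real205 ok206
theorem real207 : Real n207 := Real.mul real187 real144 ok207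
theorem real208 : Real n208 := Real.mul real206 real207 ok208
theorem real209 : Real n209 := Real.mul real208 real201 ok209
theorem real210 : Real n210 := Real.mul real201 real207 ok210
theorem real211 : Real n211 := Real.mul real209 real210 ok211
theorem real212 : Real n212 := Real.mul real199 real170 ok212
theorem real213 : Real n213 := Real.mul real211 real212 ok213
theorem real214 : Real n214 := Real.mul real201 real187 ok214
theorem real215 : Real n215 := Real.mul real207 real203 ok215
theorem real216 : Real n216 := Real.mul real153 real215 ok216
theorem real217 : Real n217 := Real.mul real214 real210 ok217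
theorem real218 : Real n218 := Real.mul real216 real217 ok218
theorem real219 : Real n219 := Real.mul real210 real217 ok219
theorem real220 : Real n220 := Real.mul real218 real219 ok220
theorem real221 : Real n221 := Real.mul real195 real205 ok221
theorem real222 : Real n222 := Real.mul real220 real221 ok222
theorem real223 : Real n223 := Real.mul real203 real181 ok223
theorem real224 : Real n224 := Real.mul real222 real223 ok224
theorem real225 : Real n225 := Real.mul real210 real223 ok225
theorem real226 : Real n226 := Real.mul real224 real225 ok226
theorem real227 : Real n227 := Real.mul real_letters.2.2.1 real_letters.2.2.2 ok227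
theorem real228 : Real n228 := Real.mul real227 real_letters.2.1 ok228
theorem real229 : Real n229 := Real.mul real228 real_letters.2.2.2 ok229
theorem real230 : Real n230 := Real.mul real229 real_letters.2.2.1 ok230
theorem real231 : Real n231 := Real.mul real230 real_letters.2.2.1 ok231
theorem real232 : Real n232 := Real.mul real231 real_letters.1 ok232
theorem real233 : Real n233 := Real.mul real232 real_letters.2.2.1 ok233
theorem real234 : Real n234 := Real.mul real233 real_letters.1 ok234
theorem real235 : Real n235 := Real.mul real234 real_letters.2.1 ok235
theorem real236 : Real n236 := Real.mul real235 real_letters.2.2.2 ok236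
theorem real237 : Real n237 := Real.mul real236 real_letters.1 ok237
theorem real238 : Real n238 := Real.mul real227 real_letters.2.2.1 ok238
theorem real239 : Real n239 := Real.mul real238 real_letters.2.2.2 ok239
theorem real240 : Real n240 := Real.mul real239 real_letters.1 ok240
theorem real241 : Real n241 := Real.mul real240 real_letters.2.1 ok241
theorem real242 : Real n242 := Real.mul real240 real_letters.2.2.1 ok242
theorem real243 : Real n243 := Real.mul real242 real_letters.2.2.2 ok243
theorem real244 : Real n244 := Real.mul real243 real_letters.2.2.1 ok244
theorem real245 : Real n245 := Real.mul real244 real_letters.2.2.1 ok245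
theorem real246 : Real n246 := Real.mul real_letters.1 real_letters.2.2.1 ok246
theorem real247 : Real n247 := Real.mul real246 real_letters.1 ok247
theorem real248 : Real n248 := Real.mul real247 real_letters.2.2.2 ok248
theorem real249 : Real n249 := Real.mul real248 real_letters.2.2.1 ok249
theorem real250 : Real n250 := Real.mul real249 real_letters.2.2.2 ok250
theorem real251 : Real n251 := Real.mul real250 real_letters.1 ok251
theorem real252 : Real n252 := Real.mul real251 real_letters.2.2.1 ok252
theorem real253 : Real n253 := Real.mul real252 real_letters.2.2.2 ok253
theorem real254 : Real n254 := Real.mul real253 real_letters.2.2.1 ok254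
theorem real255 : Real n255 := Real.mul real254 real_letters.2.2.1 ok255
theorem real256 : Real n256 := Real.mul real0 real_letters.2.2.2 ok256
theorem real257 : Real n257 := Real.mul real256 real_letters.1 ok257
theorem real258 : Real n258 := Real.mul real257 real_letters.2.2.1 ok258
theorem real259 : Real n259 := Real.mul real258 real_letters.2.2.2 ok259
theorem real260 : Real n260 := Real.mul real259 real_letters.1 ok260
theorem real261 : Real n261 := Real.mul real260 real_letters.2.2.1 ok261
theorem real262 : Real n262 := Real.mul real261 real_letters.2.2.2 ok262
theorem real263 : Real n263 := Real.mul real260 real_letters.2.1 ok263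
theorem real264 : Real n264 := Real.mul real263 real_letters.2.2.2 ok264

theorem dvd29 : 29 ∣ Nat.card rep.range :=
  real255.dvd (by norm_num) (by decide +kernel) (by decide +kernel)

theorem dvd31 : 31 ∣ Nat.card rep.range :=
  real237.dvd (by norm_num) (by decide +kernel) (by decide +kernel)

theorem dvd37 : 37 ∣ Nat.card rep.range :=
  real245.dvd (by norm_num) (by decide +kernel) (by decide +kernel)

theorem dvd43 : 43 ∣ Nat.card rep.range :=
  real264.dvd (by norm_num) (by decide +kernel) (by decide +kernel)

theorem pow_b : powFix n11 11 = true := by decide +kernel
theorem pow_e : powFix n226 11 = true := by decide +kernel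
theorem chk_be : mul3 n11 n226 tBE = true := by decide +kernel
theorem chk_eb : mul3 n226 n11 tEB = true := by decide +kernel
theorem chk_c : mul3 tBE tC tEB = true := by decide +kernel
theorem chk_ec : mul3 n226 tC tEC = true := by decide +kernel
theorem chk_ce : mul3 tC n226 tEC = true := by decide +kernel
theorem chk_bc : mul3 n11 tC tBC = true := by decide +kernel
theorem chk_cb : mul3 tC n11 tBC = true := by decide +kernel
theorem c_moves : moves tC = true := by decide +kernel
theorem eleven : ∃ a b : Cfsg.Spor.J4, Acts (rep a) n226 ∧ Acts (rep b) n11 :=
  let ⟨a, ha⟩ := real226
  let ⟨b, hb⟩ := real11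
  ⟨a, b, ha, hb⟩

end CfsgLib.J4Index
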