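import Cfsg.Agent.Lib.Presented.J4Index.Chain
import Mathlib.GroupTheory.Index
import Mathlib.GroupTheory.SpecificGroups.Cyclic

/-!
The order of the presented fourth Janko group is a multiple of `11 ^ 3 * 29 * 31 * 37 * 43`.
-/
set_option autoImplicit false
set_option maxRecDepth 20000

namespace CfsgLib.J4Index

open CfsgLib.Presented CfsgLib.J4Rep Subgroup
open scoped Pointwise

/-- two elements of prime order whose commutator is central and nontrivial generate a group of
order divisible by the cube of the prime -/
theorem cube_dvd_card {G : Type*} [Group G] {q : ℕ} (hq : q.Prime) {a b c : G} (ha : a ^ q = 1)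
    (hb : b ^ q = 1) (hc : b * a = c * (a * b)) (hca : c * a = a * c) (hcb : c * b = b * c)
    (hc1 : c ≠ 1) : q ^ 3 ∣ Nat.card G := by
  haveI := Fact.mk hq
  -- conjugation of `b` by `a`
  have hconj : a * b * a⁻¹ = c⁻¹ * b := by
    rw [show a * b = c⁻¹ * (b * a) by rw [hc]; group]
    group
  have hcq : c ^ q = 1 := by
    have h1 : (a * b * a⁻¹) ^ q = 1 := by rw [conj_pow, hb]; group
    rw [hconj, (Commute.inv_left (show Commute c b from hcb)).mul_pow, hb, mul_one, inv_pow,
      inv_eq_one] at h1
    exact h1
  have hb1 : b ≠ 1 := by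
    rintro rfl
    apply hc1
    simpa using hc
  have ha1 : a ≠ 1 := by
    rintro rfl
    apply hc1
    simpa using hc
  let B : Subgroup G := closure {b, c}
  have hbB : b ∈ B := subset_closure (by simp)
  have hcB : c ∈ B := subset_closure (by simp)
  have hcen : ∀ x ∈ B, Commute c x := by
    intro x hx
    refine closure_induction (p := fun x _ => Commute c x) ?_ (Commute.one_right c)
      (fun _ _ _ _ h1 h2 => h1.mul_right h2) (fun _ _ h => h.inv_right) hx
    rintro y (h | h) <;> rw [h]
    · exact hcb
  have hbcen : ∀ x ∈ B, Commute b x := by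
    intro x hx
    refine closure_induction (p := fun x _ => Commute b x) ?_ (Commute.one_right b)
      (fun _ _ _ _ h1 h2 => h1.mul_right h2) (fun _ _ h => h.inv_right) hx
    rintro y (h | h) <;> rw [h]
    exact (show Commute c b from hcb).symm
  -- `b` is not a power of `c`, and `a` is not in `B`
  have hbz : b ∉ zpowers c := by
    intro h
    obtain ⟨n, hn⟩ := mem_zpowers_iff.1 h
    have : Commute b a := hn ▸ (show Commute c a from hca).zpow_left n
    apply hc1
    have h2 := hc
    rw [this.eq, right_eq_mul] at h2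
    exact h2
  have haB : a ∉ B := by
    intro h
    have : Commute b a := hbcen a h
    apply hc1
    have h2 := hc
    rw [this.eq, right_eq_mul] at h2
    exact h2
  have hcard : q ^ 2 ∣ Nat.card B := by
    have h1 : Nat.card (zpowers c) = q := by rw [Nat.card_zpowers, orderOf_eq_prime hcq hc1]
    have hle : zpowers c ≤ B := zpowers_le.2 hcB
    haveI : ((zpowers c).subgroupOf B).Normal := ⟨fun n hn x => by
      rw [mem_subgroupOf] at hn ⊢
      obtain ⟨k, hk⟩ := mem_zpowers_iff.1 hn
      have hx : Commute (x : G) (n : G) := hk ▸ (hcen x x.2).symm.zpow_right k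
      simp only [Subgroup.coe_mul, InvMemClass.coe_inv, hx.eq]
      simpa using hn⟩
    have h2 : q ∣ Nat.card (B ⧸ (zpowers c).subgroupOf B) := by
      have ho : orderOf (QuotientGroup.mk (⟨b, hbB⟩ : B) : B ⧸ (zpowers c).subgroupOf B) = q := by
        refine orderOf_eq_prime ?_ ?_
        · rw [← QuotientGroup.mk_pow, show (⟨b, hbB⟩ : B) ^ q = 1 from Subtype.ext hb]
          rfl
        · rw [Ne, QuotientGroup.eq_one_iff, mem_subgroupOf]
          exact hbz
      rw [← ho]
      exact orderOf_dvd_natCard _
    rw [card_eq_card_quotient_mul_card_subgroup ((zpowers c).subgroupOf B),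
      Nat.card_congr (subgroupOfEquivOfLe hle).toEquiv, h1, sq]
    exact Nat.mul_dvd_mul_right h2 q
  let K : Subgroup G := closure {a, b}
  have haK : a ∈ K := subset_closure (by simp)
  have hbK : b ∈ K := subset_closure (by simp)
  have hcK : c ∈ K := by
    have : c = b * a * (a * b)⁻¹ := by rw [hc]; group
    rw [this]
    exact K.mul_mem (K.mul_mem hbK haK) (K.inv_mem (K.mul_mem haK hbK))
  have hle : B ≤ K := (closure_le _).2 (by rintro y (rfl | rfl) <;> assumption)
  have hconjB : ∀ x ∈ K, ∀ n ∈ B, x * n * x⁻¹ ∈ B := by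
    have hP : ∀ x ∈ K, x ∈ normalizer (B : Set G) := by
      refine fun x hx => (closure_le _).2 ?_ hx
      rintro y (hy | hy)
      · rw [SetLike.mem_coe, mem_normalizer_iff, hy]
        have himg : B.map (MulAut.conj a).toMonoidHom = B := by
          show (closure {b, c}).map _ = closure {b, c}
          rw [MonoidHom.map_closure]
          have e1 : (MulAut.conj a).toMonoidHom b = c⁻¹ * b := by simpa using hconj
          have e2 : (MulAut.conj a).toMonoidHom c = c := by
            show a * c * a⁻¹ = c
            rw [← hca]; group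
          rw [Set.image_pair, e1, e2]
          refine le_antisymm ((closure_le _).2 ?_) ((closure_le _).2 ?_)
          · rintro z (hz | hz) <;> rw [hz]
            · exact B.mul_mem (B.inv_mem hcB) hbB
            · exact hcB
          · rintro z (hz | hz) <;> rw [hz]
            · have : b = c * (c⁻¹ * b) := by group
              rw [this]
              exact mul_mem (subset_closure (by simp)) (subset_closure (by simp))
            · exact subset_closure (by simp)
        intro h
        have := mem_map_equiv (f := MulAut.conj a) (K := B) (x := a * h * a⁻¹)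
        have e3 : (MulAut.conj a).symm (a * h * a⁻¹) = h := by simp [mul_assoc]
        rw [e3] at this
        rw [← this]
        exact SetLike.ext_iff.1 himg _
      · rw [SetLike.mem_coe, show y = b from hy]
        exact le_normalizer hbB
    intro x hx n hn
    exact (mem_normalizer_iff.1 (hP x hx) n).1 hn
  haveI : (B.subgroupOf K).Normal := ⟨fun n hn x => by
    rw [mem_subgroupOf] at hn ⊢
    simpa using hconjB x x.2 n hn⟩
  have h3 : q ∣ Nat.card (K ⧸ B.subgroupOf K) := by
    have ho : orderOf (QuotientGroup.mk (⟨a, haK⟩ : K) : K ⧸ B.subgroupOf K) = q := by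
      refine orderOf_eq_prime ?_ ?_
      · rw [← QuotientGroup.mk_pow, show (⟨a, haK⟩ : K) ^ q = 1 from Subtype.ext ha]
        rfl
      · rw [Ne, QuotientGroup.eq_one_iff, mem_subgroupOf]
        exact haB
    rw [← ho]
    exact orderOf_dvd_natCard _
  refine dvd_trans ?_ (card_subgroup_dvd_card K)
  rw [card_eq_card_quotient_mul_card_subgroup (B.subgroupOf K),
    Nat.card_congr (subgroupOfEquivOfLe hle).toEquiv, pow_succ']
  exact Nat.mul_dvd_mul h3 hcard

theorem cube_eleven : 11 ^ 3 ∣ Nat.card rep.range := by
  obtain ⟨x, y, hx, hy⟩ := eleven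
  let a : rep.range := ⟨rep x, MonoidHom.mem_range.mpr ⟨x, rfl⟩⟩
  let b : rep.range := ⟨rep y, MonoidHom.mem_range.mpr ⟨y, rfl⟩⟩
  have hBE : Acts (rep x * rep y) tBE := hy.mul hx chk_be
  have hEB : Acts (rep y * rep x) tEB := hx.mul hy chk_eb
  have hC : Acts (rep y * rep x * (rep x * rep y)⁻¹) tC := fun v => by
    rw [Equiv.Perm.mul_apply, hEB]
    have hv := hBE ((rep x * rep y)⁻¹ v)
    rw [Equiv.Perm.coe_inv, Equiv.apply_symm_apply] at hv
    rw [hv, mul3_apply chk_c]
    rfl
  refine cube_dvd_card (a := a) (b := b) (c := b * a * (a * b)⁻¹) (by norm_num)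
    (Subtype.ext (hx.pow_eq_one pow_e)) (Subtype.ext (hy.pow_eq_one pow_b)) (by group)
    (Subtype.ext ?_) (Subtype.ext ?_) ?_
  · exact (hx.mul hC chk_ec).ext (hC.mul hx chk_ce)
  · exact (hy.mul hC chk_bc).ext (hC.mul hy chk_cb)
  · exact fun h => hC.ne_one c_moves (congrArg Subtype.val h)

/-- large prime divisors of the order -/
theorem primes_dvd_range : 11 ^ 3 * 29 * 31 * 37 * 43 ∣ Nat.card rep.range := by
  refine Nat.Coprime.mul_dvd_of_dvd_of_dvd (by norm_num) ?_ dvd43
  refine Nat.Coprime.mul_dvd_of_dvd_of_dvd (by norm_num) ?_ dvd37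
  refine Nat.Coprime.mul_dvd_of_dvd_of_dvd (by norm_num) ?_ dvd31
  exact Nat.Coprime.mul_dvd_of_dvd_of_dvd (by norm_num) cube_eleven dvd29

theorem primes_dvd_card : 11 ^ 3 * 29 * 31 * 37 * 43 ∣ Nat.card Cfsg.Spor.J4 :=
  primes_dvd_range.trans (card_range_dvd rep)

end CfsgLib.J4Index
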