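import Cfsg.Agent.Lib.Presented.J4Index.Base
import Cfsg.Agent.Lib.Presented.J4Index.Data0

/-! Kernel checks of the products (part 0). -/
set_option autoImplicit false
set_option maxRecDepth 20000

namespace CfsgLib.J4Index

open CfsgLib.Presented CfsgLib.J4Rep

theorem ok0 : mul3 tabX tabYi n0 = true := by decide +kernel
theorem ok1 : mul3 n0 tabX n1 = true := by decide +kernel
theorem ok2 : mul3 n1 tabY n2 = true := by decide +kernel
theorem ok3 : mul3 n2 tabX n3 = true := by decide +kernel
theorem ok4 : mul3 n3 tabYi n4 = true := by decide +kernel
theorem ok5 : mul3 n4 tabYi n5 = true := by decide +kernel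
theorem ok6 : mul3 n5 tabX n6 = true := by decide +kernel
theorem ok7 : mul3 n6 tabY n7 = true := by decide +kernel
theorem ok8 : mul3 n7 tabX n8 = true := by decide +kernel
theorem ok9 : mul3 n8 tabYi n9 = true := by decide +kernel
theorem ok10 : mul3 n9 tabX n10 = true := by decide +kernel
theorem ok11 : mul3 n10 tabYi n11 = true := by decide +kernel
theorem ok12 : mul3 n1 tabYi n12 = true := by decide +kernel
theorem ok13 : mul3 n12 tabX n13 = true := by decide +kernel
theorem ok14 : mul3 n13 tabY n14 = true := by decide +kernel
theorem ok15 : mul3 n14 tabT n15 = true := by decide +kernel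
theorem ok16 : mul3 n15 tabY n16 = true := by decide +kernel
theorem ok17 : mul3 n16 tabT n17 = true := by decide +kernel
theorem ok18 : mul3 n17 tabYi n18 = true := by decide +kernel
theorem ok19 : mul3 n18 tabT n19 = true := by decide +kernel
theorem ok20 : mul3 n19 tabX n20 = true := by decide +kernel
theorem ok21 : mul3 n20 tabY n21 = true := by decide +kernel
theorem ok22 : mul3 n21 tabT n22 = true := by decide +kernel
theorem ok23 : mul3 n22 tabYi n23 = true := by decide +kernel
theorem ok24 : mul3 n23 tabX n24 = true := by decide +kernel
theorem ok25 : mul3 n24 tabYi n25 = true := by decide +kernel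
theorem ok26 : mul3 n25 tabX n26 = true := by decide +kernel
theorem ok27 : mul3 n26 tabYi n27 = true := by decide +kernel
theorem ok28 : mul3 n27 tabT n28 = true := by decide +kernel
theorem ok29 : mul3 n28 tabY n29 = true := by decide +kernel
theorem ok30 : mul3 n29 tabT n30 = true := by decide +kernel
theorem ok31 : mul3 n30 tabYi n31 = true := by decide +kernel
theorem ok32 : mul3 n31 tabT n32 = true := by decide +kernel
theorem ok33 : mul3 tabT tabY n33 = true := by decide +kernel
theorem ok34 : mul3 n33 tabT n34 = true := by decide +kernel
theorem ok35 : mul3 n34 tabY n35 = true := by decide +kernel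

end CfsgLib.J4Index
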